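import Groth.Agent.Lib.NoriFGS13.Push
import Groth.Agent.Lib.AffHull14.Basic
import Mathlib.RingTheory.Flat.EquationalCriterion
import Mathlib.RingTheory.RingHom.FaithfullyFlat

/-!
# Faithful flatness of dominant homomorphisms of pro-finite group schemes
-/

set_option autoImplicit false
set_option backward.isDefEq.respectTransparency.types false

universe u

open CategoryTheory CategoryTheory.Limits MonoidalCategory CartesianMonoidalCategory MonObj AlgebraicGeometry

namespace GrothLib.NoriFGS13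

theorem map_ne_top {B₀ A₀ : Type u} [CommRing B₀] [CommRing A₀] {r : B₀ →+* A₀} (hr : r.FaithfullyFlat)
    {I : Ideal B₀} (hI : I ≠ ⊤) : I.map r ≠ ⊤ := by
  obtain ⟨m, hm, hle⟩ := Ideal.exists_le_maximal I hI
  obtain ⟨P, hP⟩ := (RingHom.FaithfullyFlat.iff_flat_and_comap_surjective).1 hr |>.2 ⟨m, hm.isPrime⟩
  intro h
  have hle' : I ≤ P.asIdeal.comap r := hle.trans (le_of_eq (congrArg PrimeSpectrum.asIdeal hP).symm)
  rw [← Ideal.map_le_iff_le_comap, h, top_le_iff] at hle'
  exact P.isPrime.ne_top hle'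

/-- Faithful flatness from finite stages. -/
theorem faithfullyFlat_of_stages {B A : Type u} [CommRing B] [CommRing A] (f : B →+* A)
    (H : ∀ (n : ℕ) (b : Fin n → B) (a : Fin n → A), ∃ (B₀ A₀ : Type u) (_ : CommRing B₀) (_ : CommRing A₀)
      (g : B₀ →+* B) (h : A₀ →+* A) (r : B₀ →+* A₀), r.FaithfullyFlat ∧ Function.Injective h ∧
        (∀ z, h (r z) = f (g z)) ∧ (∀ i, b i ∈ g.range) ∧ ∀ i, a i ∈ h.range) :
    f.FaithfullyFlat := by
  algebraize [f]
  refine RingHom.FaithfullyFlat.iff_flat_and_comap_surjective.2 ?_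
  have hflat : Module.Flat B A := by
    rw [Module.Flat.iff_forall_isTrivialRelation]
    intro l b a hrel
    obtain ⟨B₀, A₀, _, _, g, h, r, hr, hinj, hc, hb, ha⟩ := H l b a
    choose b₀ hb₀ using hb
    choose a₀ ha₀ using ha
    letI := r.toAlgebra
    haveI : Module.Flat B₀ A₀ := hr.flat
    have hrel₀ : ∑ i, b₀ i • a₀ i = 0 := by
      apply hinj
      rw [map_sum, map_zero, ← hrel]
      refine Finset.sum_congr rfl fun i _ => ?_
      show h (r (b₀ i) * a₀ i) = f (b i) * a i
      rw [map_mul, hc, hb₀, ha₀]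
    have htriv : Module.IsTrivialRelation b₀ a₀ :=
      (Module.Flat.iff_forall_isTrivialRelation (R := B₀) (M := A₀)).mp inferInstance hrel₀
    obtain ⟨κ, y, c, hc₁, hc₂⟩ := htriv
    refine ⟨κ, fun i j => g (y i j), fun j => h (c j), fun i => ?_, fun j => ?_⟩
    · rw [← ha₀ i, hc₁ i, map_sum]
      refine Finset.sum_congr rfl fun j _ => ?_
      show h (r (y i j) * c j) = f (g (y i j)) * h (c j)
      rw [map_mul, hc]
    · show ∑ i, b i * g (y i j) = 0
      have e : ∑ i, b i * g (y i j) = g (∑ i, b₀ i * y i j) := by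
        rw [map_sum]
        exact Finset.sum_congr rfl fun i _ => by rw [map_mul, hb₀]
      rw [e, hc₂ j, map_zero]
  refine ⟨hflat, fun p => ?_⟩
  -- a prime of `B` has proper extension
  show p ∈ Set.range (PrimeSpectrum.comap f)
  rw [PrimeSpectrum.mem_range_comap_iff]
  ext x
  constructor
  · intro hx
    rw [Ideal.mem_comap] at hx
    obtain ⟨l, c, z, hsum⟩ : ∃ (l : ℕ) (c : Fin l → A) (z : Fin l → B), (∀ i, z i ∈ p.asIdeal) ∧
        ∑ i, c i * f (z i) = f x := by
      have hx' : f x ∈ Submodule.span A (f '' (p.asIdeal : Set B)) := hx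
      obtain ⟨l, c, w, hw⟩ := Submodule.mem_span_set'.1 hx'
      choose z hz hzw using fun i => (w i).2
      refine ⟨l, c, z, hz, ?_⟩
      rw [← hw]
      exact Finset.sum_congr rfl fun i _ => by rw [hzw, smul_eq_mul]
    obtain ⟨hz, hsum⟩ := hsum
    obtain ⟨B₀, A₀, _, _, g, h, r, hr, hinj, hc, hb, ha⟩ := H (l + 1) (Fin.cons x z) (Fin.cons 0 c)
    choose b₀ hb₀ using hb
    choose a₀ ha₀ using ha
    letI := r.toAlgebra
    have hmem : r (b₀ 0) ∈ (p.asIdeal.comap g).map r := by
      have e : r (b₀ 0) = ∑ i : Fin l, a₀ i.succ * r (b₀ i.succ) := by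
        apply hinj
        simp only [map_sum, map_mul, hc, hb₀, ha₀, Fin.cons_zero, Fin.cons_succ, hsum]
      rw [e]
      refine Ideal.sum_mem _ fun i _ => Ideal.mul_mem_left _ _ (Ideal.mem_map_of_mem _ ?_)
      rw [Ideal.mem_comap, hb₀, Fin.cons_succ]
      exact hz i
    obtain ⟨P, hP⟩ := (RingHom.FaithfullyFlat.iff_flat_and_comap_surjective).1 hr |>.2
      ⟨p.asIdeal.comap g, Ideal.IsPrime.comap g⟩
    have hP' : P.asIdeal.comap r = p.asIdeal.comap g := congrArg PrimeSpectrum.asIdeal hP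
    have : b₀ 0 ∈ p.asIdeal.comap g := by
      rw [← hP', Ideal.mem_comap]
      exact (Ideal.map_le_iff_le_comap.2 hP'.ge) hmem
    rw [Ideal.mem_comap, hb₀, Fin.cons_zero] at this
    exact this
  · exact fun hx => Ideal.mem_comap.2 (Ideal.mem_map_of_mem _ hx)

attribute [local instance] NoriFGS.ProFinPres.cat NoriFGS.ProFinPres.cofiltered NoriFGS.ProFinPres.grp
  NoriFGS.ProFinPres.finite NoriFGS.ProFinPres.isMonHom_π

variable {k : Type u} [Field k]

theorem flat_surjective_iff_appTop {A B : Scheme.{u}} [IsAffine A] [IsAffine B] (f : A ⟶ B) :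
    Flat f ∧ Surjective f ↔ f.appTop.hom.FaithfullyFlat := by
  have e : f = A.isoSpec.hom ≫ Spec.map f.appTop ≫ B.isoSpec.inv := by
    rw [Scheme.isoSpec_hom_naturality_assoc, Iso.hom_inv_id, Category.comp_id]
  conv_lhs => rw [e]
  rw [MorphismProperty.cancel_left_of_respectsIso (@Flat : MorphismProperty Scheme.{u}),
    MorphismProperty.cancel_right_of_respectsIso (@Flat : MorphismProperty Scheme.{u}),
    MorphismProperty.cancel_left_of_respectsIso (@Surjective : MorphismProperty Scheme.{u}),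
    MorphismProperty.cancel_right_of_respectsIso (@Surjective : MorphismProperty Scheme.{u}),
    flat_and_surjective_SpecMap_iff]

theorem isSchemeTheoreticallyDominant_of_flat {A B : Scheme.{u}} (c : A ⟶ B) [Flat c] [Surjective c] [QuasiCompact c] :
    IsSchemeTheoreticallyDominant c := by
  refine ⟨?_⟩
  rw [← Scheme.isIso_subschemeι_iff_eq_bot]
  let s : A ⟶ pullback c.imageι c := pullback.lift c.toImage (𝟙 _) (by rw [c.toImage_imageι, Category.id_comp])
  haveI : IsIso (pullback.snd c.imageι c) := by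
    haveI : IsSplitEpi (pullback.snd c.imageι c) := ⟨⟨⟨s, pullback.lift_snd _ _ _⟩⟩⟩
    exact isIso_of_mono_of_isSplitEpi _
  exact MorphismProperty.of_pullback_snd_of_descendsAlong (P := MorphismProperty.isomorphisms Scheme.{u})
    (Q := @Surjective ⊓ @Flat ⊓ @QuasiCompact) (f := c.imageι) (g := c) ⟨⟨‹_›, ‹_›⟩, ‹_›⟩
    (show IsIso (pullback.snd c.imageι c) from inferInstance)

/-- A homomorphism between pro-finite groups which stays dominant on every finite quotient is faithfully flat. -/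
theorem flat_surjective_of_profinite {A B : Over (Spec (CommRingCat.of k))} [GrpObj A] [GrpObj B]
    (hA : NoriFGS.IsProFinite A) (hB : NoriFGS.IsProFinite B) (φ : A ⟶ B) [IsMonHom φ]
    (hdom : ∀ (M : Over (Spec (CommRingCat.of k))) [GrpObj M] [IsFinite M.hom] (ψ : B ⟶ M) [IsMonHom ψ]
      [IsSchemeTheoreticallyDominant ψ.left], IsSchemeTheoreticallyDominant (φ ≫ ψ).left) :
    Flat φ.left ∧ Surjective φ.left := by
  haveI := isAffine_of_isProFinite hA
  haveI := isAffine_of_isProFinite hB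
  rw [flat_surjective_iff_appTop]
  obtain ⟨pA⟩ := id hA
  obtain ⟨pB⟩ := id hB
  refine faithfullyFlat_of_stages _ fun n b a => ?_
  choose iA tA hA' using fun l => exists_appTop_eq pA (a l)
  choose iB tB hB' using fun l => exists_appTop_eq pB (b l)
  classical
  obtain ⟨I, hI⟩ := IsCofiltered.inf_objs_exists (Finset.univ.image iA)
  obtain ⟨J, hJ⟩ := IsCofiltered.inf_objs_exists (Finset.univ.image iB)
  let πI : A ⟶ pA.D.obj I := pA.π.app I
  let πJ : B ⟶ pB.D.obj J := pB.π.app J
  obtain ⟨M, _, _, jM, _, _, ψ, _, hψ, hdψ, -⟩ := exists_image hB πJ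
  haveI : IsFinite (pA.D.obj I ⊗ M).hom := by
    show IsFinite (pullback.fst (pA.D.obj I).hom M.hom ≫ (pA.D.obj I).hom)
    infer_instance
  haveI : IsMonHom (lift πI (φ ≫ ψ)) :=
    { one_hom := by apply CartesianMonoidalCategory.hom_ext <;> simp [IsMonHom.one_hom]
      mul_hom := by apply CartesianMonoidalCategory.hom_ext <;> simp [IsMonHom.mul_hom] }
  obtain ⟨N, _, _, j, _, _, χ, _, hχ, hdχ, -⟩ := exists_image hA (lift πI (φ ≫ ψ))
  haveI : IsMonHom (snd (pA.D.obj I) M) :=
    { one_hom := by simp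
      mul_hom := by simp }
  haveI : IsAffine N.left := isAffine_of_isAffineHom N.hom
  haveI : IsAffine M.left := isAffine_of_isAffineHom M.hom
  let r : N ⟶ M := j ≫ snd _ _
  have hr : χ ≫ r = φ ≫ ψ := by rw [reassoc_of% hχ, lift_snd]
  have hinj : Function.Injective r.left.appTop.hom := by
    intro x y e
    haveI := hdom M ψ
    refine (φ ≫ ψ).left.app_injective ⊤ ?_
    show (φ ≫ ψ).left.appTop x = (φ ≫ ψ).left.appTop y
    rw [← hr, Over.comp_left, Scheme.Hom.comp_appTop]
    exact congrArg χ.left.appTop e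
  have hFS := GrothLib.AffHull14.flat_surjective_of_dominant r hinj
  refine ⟨Γ(M.left, ⊤), Γ(N.left, ⊤), inferInstance, inferInstance, ψ.left.appTop.hom, χ.left.appTop.hom,
    r.left.appTop.hom, (flat_surjective_iff_appTop r.left).1 hFS, χ.left.app_injective ⊤, ?_, ?_, ?_⟩
  · intro z
    show (r.left.appTop ≫ χ.left.appTop) z = (ψ.left.appTop ≫ φ.left.appTop) z
    rw [← Scheme.Hom.comp_appTop, ← Scheme.Hom.comp_appTop, ← Over.comp_left, ← Over.comp_left, hr]
  · intro l
    obtain ⟨d⟩ := hJ (Finset.mem_image_of_mem iB (Finset.mem_univ l))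
    refine ⟨(jM ≫ pB.D.map d).left.appTop (tB l), ?_⟩
    show ((jM ≫ pB.D.map d).left.appTop ≫ ψ.left.appTop) (tB l) = _
    rw [← Scheme.Hom.comp_appTop, ← Over.comp_left, ← Category.assoc, hψ, ← hB' l]
    congr 3
    exact congrArg CommaMorphism.left (Cone.w (Cone.mk B pB.π) d)
  · intro l
    obtain ⟨d⟩ := hI (Finset.mem_image_of_mem iA (Finset.mem_univ l))
    refine ⟨(j ≫ fst _ _ ≫ pA.D.map d).left.appTop (tA l), ?_⟩
    show ((j ≫ fst _ _ ≫ pA.D.map d).left.appTop ≫ χ.left.appTop) (tA l) = _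
    rw [← Scheme.Hom.comp_appTop, ← Over.comp_left, ← Category.assoc, hχ, lift_fst_assoc, ← hA' l]
    congr 3
    exact congrArg CommaMorphism.left (Cone.w (Cone.mk A pA.π) d)

end GrothLib.NoriFGS13
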