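import Groth.Prelude.Def_ChGrp
import Groth.Prelude.Def_NonAbH2
import Groth.Agent.Lib.TorsorDesc.Pseudo
import Groth.Agent.Lib.GrpdQuot.ImageGrpd
import Groth.Agent.Lib.EssFree.Subgroup
import Groth.Agent.Lib.FpqcRep.Small
import Groth.Agent.Lib.FpqcDesc.ClosedImmersion
import Groth.Agent.Lib.FpqcCov.Basic
import Groth.Agent.Lib.AntiAffine.Hom
import Mathlib.AlgebraicGeometry.Morphisms.SchemeTheoreticallyDominant
import Mathlib.AlgebraicGeometry.Morphisms.ClosedImmersion

/-!
# Closed subobjects: factorisation, descent, transfer along morphisms of torsors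
-/

set_option autoImplicit false

universe u

open CategoryTheory CategoryTheory.Limits MonoidalCategory CartesianMonoidalCategory MonObj AlgebraicGeometry

namespace GrothLib.NoriFGS13

/-- A point factors through a subobject. -/
def Fac {C : Type*} [Category C] {W A T : C} (j : W ⟶ A) (x : T ⟶ A) : Prop := ∃ w : T ⟶ W, w ≫ j = x

theorem Fac.comp {C : Type*} [Category C] {W A T T' : C} {j : W ⟶ A} {x : T ⟶ A} (h : Fac j x) (t : T' ⟶ T) :
    Fac j (t ≫ x) := by
  obtain ⟨w, rfl⟩ := h
  exact ⟨t ≫ w, Category.assoc _ _ _⟩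

theorem fac_self {C : Type*} [Category C] {W A T : C} (j : W ⟶ A) (w : T ⟶ W) : Fac j (w ≫ j) := ⟨w, rfl⟩

section Over

variable {S : Scheme.{u}}

/-- Factorisation through a monomorphism is local for effective epimorphisms. -/
theorem fac_of_effectiveEpi {Z W A B : Over S} {j : Z ⟶ W} [Mono j] {w : B ⟶ W} (q : A ⟶ B)
    [EffectiveEpi q.left] (h : Fac j (q ≫ w)) : Fac j w := by
  obtain ⟨a, ha⟩ := h
  obtain ⟨b, hb, -⟩ := TorsorDesc.existsUnique_desc q a fun T x y hxy => by
    rw [← cancel_mono j, Category.assoc, Category.assoc, ha, ← Category.assoc, hxy, Category.assoc]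
  exact ⟨b, TorsorDesc.cancel_of_effectiveEpi q (by rw [← Category.assoc, hb, ha])⟩

theorem mono_of_isClosedImmersion {Z W : Over S} (j : Z ⟶ W) [IsClosedImmersion j.left] : Mono j :=
  Over.mono_of_mono_left j

/-- A closed subscheme stable under the equivalence relation of a flat morphism descends. -/
theorem exists_closed_desc {A B W : Over S} (p : A ⟶ B) [Flat p.left] [QuasiCompact p.left]
    (j : W ⟶ A) [IsClosedImmersion j.left]
    (hinv : ∀ (T : Over S) (a₁ a₂ : T ⟶ A), a₁ ≫ p = a₂ ≫ p → Fac j a₁ → Fac j a₂) :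
    ∃ (V : Over S) (jV : V ⟶ B), IsClosedImmersion jV.left ∧
      ∀ (T : Over S) (a : T ⟶ A), Fac jV (a ≫ p) ↔ Fac j a := by
  let g : W.left ⟶ B.left := j.left ≫ p.left
  have : QuasiCompact g := inferInstanceAs (QuasiCompact (j.left ≫ p.left))
  let V : Over S := Over.mk (g.imageι ≫ B.hom)
  let jV : V ⟶ B := Over.homMk g.imageι rfl
  have hι : IsClosedImmersion jV.left := inferInstanceAs (IsClosedImmersion g.imageι)
  have : IsSchemeTheoreticallyDominant g.toImage := GrothLib.Misc6.isSchemeTheoreticallyDominant_toImage g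
  have : QuasiCompact g.toImage := by
    have : QuasiCompact (g.toImage ≫ g.imageι) := by rw [g.toImage_imageι]; infer_instance
    exact QuasiCompact.of_comp g.toImage g.imageι
  refine ⟨V, jV, hι, fun T a => ⟨?_, ?_⟩⟩
  · rintro ⟨v, hv⟩
    let P := pullback g.imageι p.left
    have : Flat (pullback.fst g.imageι p.left) := inferInstance
    let Z := pullback g.toImage (pullback.fst g.imageι p.left)
    let r₁ : Z ⟶ A.left := pullback.fst _ _ ≫ j.left
    let r₂ : Z ⟶ A.left := pullback.snd _ _ ≫ pullback.snd _ _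
    have hr : r₁ ≫ p.left = r₂ ≫ p.left := by
      simp only [r₁, r₂, Category.assoc]
      rw [← pullback.condition (f := g.imageι), ← pullback.condition_assoc, g.toImage_imageι]
    let Z' : Over S := Over.mk (r₁ ≫ A.hom)
    let a₁ : Z' ⟶ A := Over.homMk r₁ rfl
    let a₂ : Z' ⟶ A := Over.homMk r₂ (by
      change r₂ ≫ A.hom = r₁ ≫ A.hom
      rw [← Over.w p, reassoc_of% hr])
    obtain ⟨w, hw⟩ := hinv Z' a₁ a₂ (Over.OverMorphism.ext hr)
      ⟨Over.homMk (pullback.fst _ _) (by change _ = (_ ≫ j.left) ≫ A.hom; rw [Category.assoc, Over.w j]),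
        Over.OverMorphism.ext rfl⟩
    obtain ⟨l, hl⟩ := GrothLib.GrpdQuot.exists_factor_of_dominant (pullback.snd g.toImage (pullback.fst g.imageι p.left))
      (pullback.snd g.imageι p.left) j.left w.left (congrArg CommaMorphism.left hw)
    have hv' : v.left ≫ g.imageι = a.left ≫ p.left := congrArg CommaMorphism.left hv
    refine ⟨Over.homMk (pullback.lift v.left a.left hv' ≫ l) ?_, Over.OverMorphism.ext ?_⟩
    · rw [Category.assoc, ← Over.w j, reassoc_of% hl, pullback.lift_snd_assoc, Over.w a]
    · change (pullback.lift v.left a.left hv' ≫ l) ≫ j.left = a.left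
      rw [Category.assoc, hl, pullback.lift_snd]
  · rintro ⟨w, rfl⟩
    let d : W ⟶ V := Over.homMk g.toImage (by
      change g.toImage ≫ g.imageι ≫ B.hom = W.hom
      rw [g.toImage_imageι_assoc]
      show (j.left ≫ p.left) ≫ B.hom = W.hom
      rw [Category.assoc, Over.w p, Over.w j])
    refine ⟨w ≫ d, ?_⟩
    rw [Category.assoc, show d ≫ jV = j ≫ p from Over.OverMorphism.ext g.toImage_imageι, Category.assoc]

end Over

section Torsor

variable {S : Scheme.{u}} {G G' P P' : Over S} [GrpObj G] [GrpObj G']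
  {a : AlgGrp.Action G P} {a' : AlgGrp.Action G' P'}

/-- A map of torsors compatible with a homomorphism, in terms of points. -/
theorem equivariant_points {φ : G ⟶ G'} [IsMonHom φ] {f : P ⟶ P'}
    (h : AlgGrp.Action.IsEquivariant a (a'.restrict φ) f) {T : Over S} (g : T ⟶ G) (x : T ⟶ P) :
    (lift g x ≫ a.act) ≫ f = lift (g ≫ φ) (x ≫ f) ≫ a'.act := by
  rw [Category.assoc, show a.act ≫ f = _ from h, lift_whiskerLeft_assoc, AlgGrp.Action.lift_restrict_act]

theorem isEquivariant_of_points {φ : G ⟶ G'} [IsMonHom φ] {f : P ⟶ P'}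
    (h : ∀ (T : Over S) (g : T ⟶ G) (x : T ⟶ P), (lift g x ≫ a.act) ≫ f = lift (g ≫ φ) (x ≫ f) ≫ a'.act) :
    AlgGrp.Action.IsEquivariant a (a'.restrict φ) f := by
  refine AlgGrp.Action.hom_ext_lift₂ fun T g x => ?_
  rw [← Category.assoc, h, lift_whiskerLeft_assoc, AlgGrp.Action.lift_restrict_act]

/-- Two points of a torsor differ by a unique group element, and torsors have sections locally. -/
theorem effectiveEpi_snd (hP : NonAbH1.IsTorsorFor Scheme.fpqcPrecoverage a) (B : Over S) :
    EffectiveEpi (snd P B).left := by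
  have h : IsPullback (pullback.fst P.hom B.hom) (pullback.snd P.hom B.hom) P.hom B.hom := IsPullback.of_hasPullback _ _
  have h' : NonAbH1.IsLocallyTrivialFor Scheme.fpqcPrecoverage (Over.mk P.hom) := hP.2
  exact TorsorDesc.effectiveEpi_of_localSections _
    (TorsorDesc.isLocallyTrivialFor_of_isPullback _ h h')

/-- An equivariant map of torsors along an isomorphism of groups is an isomorphism. -/
theorem isIso_of_equivariant (hP : NonAbH1.IsTorsorFor Scheme.fpqcPrecoverage a)
    (hP' : NonAbH1.IsPseudoTorsorSch a') (φ : G ⟶ G') [IsMonHom φ] [IsIso φ] (f : P ⟶ P')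
    (h : AlgGrp.Action.IsEquivariant a (a'.restrict φ) f) : IsIso f := by
  have hinj : ∀ {T : Over S} (x y : T ⟶ P), x ≫ f = y ≫ f → x = y := by
    intro T x y e
    obtain ⟨g, rfl⟩ := TorsorDesc.exists_act_eq hP.1 x y
    rw [equivariant_points h] at e
    have e' : g ≫ φ = 1 := TorsorDesc.act_left_injective hP' (e.trans (a'.lift_one_act (y ≫ f)).symm)
    have : g = 1 := by rw [← cancel_mono φ, e', MonObj.one_comp]
    rw [this, AlgGrp.Action.lift_one_act]
  haveI := effectiveEpi_snd hP P'
  obtain ⟨g', hg'⟩ := TorsorDesc.exists_act_eq hP' (snd P P') (fst P P' ≫ f)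
  obtain ⟨m, hm⟩ : ∃ m : P ⊗ P' ⟶ P, m ≫ f = snd P P' := ⟨lift (g' ≫ inv φ) (fst P P') ≫ a.act, by
    rw [equivariant_points h, Category.assoc, IsIso.inv_hom_id, Category.comp_id, hg']⟩
  obtain ⟨r, hr, -⟩ := TorsorDesc.existsUnique_desc (snd P P') m fun T x y e => hinj _ _ (by
    rw [Category.assoc, Category.assoc, hm, e])
  have hrf : r ≫ f = 𝟙 P' := TorsorDesc.cancel_of_effectiveEpi (snd P P') (by
    rw [← Category.assoc, hr, hm, Category.comp_id])
  exact ⟨r, hinj _ _ (by rw [Category.assoc, hrf, Category.comp_id, Category.id_comp]), hrf⟩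

/-- An equivariant map of torsors along a closed immersion of groups is a closed immersion. -/
theorem isClosedImmersion_of_equivariant (hP : NonAbH1.IsTorsorFor Scheme.fpqcPrecoverage a)
    (hP' : NonAbH1.IsPseudoTorsorSch a') (φ : G ⟶ G') [IsMonHom φ] [IsClosedImmersion φ.left] (f : P ⟶ P')
    (h : AlgGrp.Action.IsEquivariant a (a'.restrict φ) f) : IsClosedImmersion f.left := by
  obtain ⟨R, hR, hsec⟩ := hP.2
  obtain ⟨κ, U, g, hg, href⟩ := FpqcRep.exists_small_refinement hR
  have hs : ∀ i, ∃ s : U i ⟶ P.left, s ≫ P.hom = g i := fun i => by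
    obtain ⟨Z, f, k, hf, hk⟩ := href i
    obtain ⟨s, hs⟩ := hsec f hf
    exact ⟨k ≫ s, by rw [Category.assoc, hs, hk]⟩
  -- the family pulled back to the target
  let ui : ∀ i, pullback (g i) P'.hom ⟶ P'.left := fun i => pullback.snd (g i) P'.hom
  have hui : Presieve.ofArrows _ ui ∈ Scheme.fpqcPrecoverage P'.left := by
    have := Precoverage.pullbackArrows_mem (J := Scheme.fpqcPrecoverage) P'.hom hg
    rwa [← Presieve.ofArrows_pullback] at this
  obtain ⟨hqc, hflat, -⟩ := FpqcCov.quasiCompactCover_and_flat ui hui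
  refine FpqcCov.of_fpqc @IsClosedImmersion inferInstance f.left (PreZeroHypercover.mk _ _ ui) hflat fun i => ?_
  obtain ⟨s, hs⟩ := hs i
  change IsClosedImmersion (pullback.snd f.left (ui i))
  let T' : Over S := Over.mk (pullback.fst (g i) P'.hom ≫ g i)
  let x' : T' ⟶ P' := Over.homMk (pullback.snd (g i) P'.hom) pullback.condition.symm
  let σ : T' ⟶ P := Over.homMk (pullback.fst (g i) P'.hom ≫ s) (by
    change (pullback.fst _ _ ≫ s) ≫ P.hom = _
    rw [Category.assoc, hs]; rfl)
  obtain ⟨γ, hγ⟩ := TorsorDesc.exists_act_eq hP' x' (σ ≫ f)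
  let Z : Over S := Over.mk (pullback.fst γ.left φ.left ≫ T'.hom)
  let z : Z ⟶ T' := Over.homMk (pullback.fst γ.left φ.left) rfl
  let δ : Z ⟶ G := Over.homMk (pullback.snd γ.left φ.left) (by
    change pullback.snd γ.left φ.left ≫ G.hom = _ ≫ T'.hom
    rw [← Over.w φ, ← Over.w γ, pullback.condition_assoc])
  have hzδ : z ≫ γ = δ ≫ φ := Over.OverMorphism.ext pullback.condition
  let y : Z ⟶ P := lift δ (z ≫ σ) ≫ a.act
  have hy : y ≫ f = z ≫ x' := by
    rw [equivariant_points h, ← hzδ, Category.assoc, ← comp_lift_assoc, hγ]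
  let L : Over S := Over.mk (pullback.snd f.left (ui i) ≫ T'.hom)
  let l₁ : L ⟶ P := Over.homMk (pullback.fst f.left (ui i)) (by
    change pullback.fst f.left (ui i) ≫ P.hom = pullback.snd f.left (ui i) ≫ pullback.fst (g i) P'.hom ≫ g i
    rw [← Over.w f, pullback.condition_assoc, show ui i ≫ P'.hom = _ from pullback.condition.symm])
  let l₂ : L ⟶ T' := Over.homMk (pullback.snd f.left (ui i)) rfl
  have hl : l₁ ≫ f = l₂ ≫ x' := Over.OverMorphism.ext pullback.condition
  obtain ⟨ε, hε⟩ := TorsorDesc.exists_act_eq hP.1 l₁ (l₂ ≫ σ)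
  have hεφ : ε ≫ φ = l₂ ≫ γ := by
    refine TorsorDesc.act_left_injective hP' (p := (l₂ ≫ σ) ≫ f) ?_
    rw [← equivariant_points h, hε, hl, ← hγ, comp_lift_assoc, Category.assoc]
  let e : pullback f.left (ui i) ≅ pullback γ.left φ.left :=
    { hom := pullback.lift l₂.left ε.left (congrArg CommaMorphism.left hεφ.symm)
      inv := pullback.lift y.left z.left (congrArg CommaMorphism.left hy)
      hom_inv_id := by
        apply pullback.hom_ext
        · erw [Category.assoc, pullback.lift_fst, Category.id_comp]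
          let q : L ⟶ Z := Over.homMk (pullback.lift l₂.left ε.left (congrArg CommaMorphism.left hεφ.symm)) (by
            change _ ≫ pullback.fst γ.left φ.left ≫ T'.hom = _
            rw [pullback.lift_fst_assoc]; rfl)
          have h₁ : q ≫ z = l₂ := Over.OverMorphism.ext (pullback.lift_fst _ _ _)
          have h₂ : q ≫ δ = ε := Over.OverMorphism.ext (pullback.lift_snd _ _ _)
          show (q ≫ y).left = l₁.left
          rw [comp_lift_assoc, h₂, ← Category.assoc q z σ, h₁, hε]
        · erw [Category.assoc, pullback.lift_snd, Category.id_comp, pullback.lift_fst]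
          rfl
      inv_hom_id := by
        apply pullback.hom_ext
        · erw [Category.assoc, pullback.lift_fst, Category.id_comp]
          exact pullback.lift_snd _ _ _
        · rw [Category.assoc, pullback.lift_snd, Category.id_comp]
          let q : Z ⟶ L := Over.homMk (pullback.lift y.left z.left (congrArg CommaMorphism.left hy)) (by
            change _ ≫ pullback.snd f.left (ui i) ≫ T'.hom = _
            erw [pullback.lift_snd_assoc]; rfl)
          have h₁ : q ≫ l₁ = y := Over.OverMorphism.ext (pullback.lift_fst _ _ _)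
          have h₂ : q ≫ l₂ = z := Over.OverMorphism.ext (pullback.lift_snd _ _ _)
          have : q ≫ ε = δ := by
            refine TorsorDesc.act_left_injective hP.1 (p := z ≫ σ) ?_
            rw [← h₂, Category.assoc, ← comp_lift_assoc, hε, h₁, ← Category.assoc q l₂ σ, h₂]
          show (q ≫ ε).left = δ.left
          rw [this] }
  have : pullback.snd f.left (ui i) = e.hom ≫ pullback.fst γ.left φ.left := (pullback.lift_fst _ _ _).symm
  rw [this]
  haveI : IsIso e.hom := Iso.isIso_hom e
  haveI : IsClosedImmersion (pullback.fst γ.left φ.left) :=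
    MorphismProperty.of_isPullback (P := (@IsClosedImmersion : MorphismProperty Scheme.{u})) (IsPullback.of_hasPullback γ.left φ.left).flip ‹IsClosedImmersion φ.left›
  exact (MorphismProperty.cancel_left_of_respectsIso (@IsClosedImmersion : MorphismProperty Scheme.{u}) e.hom _).2 ‹IsClosedImmersion (pullback.fst γ.left φ.left)›

end Torsor

end GrothLib.NoriFGS13
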