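import Groth.Agent.Lib.NoriFGS13.Push

/-!
# Pull back of pointed torsors along the induced homomorphism
-/

set_option autoImplicit false

universe u

open CategoryTheory CategoryTheory.Limits MonoidalCategory CartesianMonoidalCategory MonObj AlgebraicGeometry

namespace GrothLib.NoriFGS13

variable {k : Type u} [Field k] {X Y : Scheme.{u}} [X.Over (Spec (CommRingCat.of k))] [Y.Over (Spec (CommRingCat.of k))]

local notation "πX" => (X ↘ Spec (CommRingCat.of k))
local notation "πY" => (Y ↘ Spec (CommRingCat.of k))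

variable (f : X ⟶ Y) (hf : f ≫ (Y ↘ Spec (CommRingCat.of k)) = X ↘ Spec (CommRingCat.of k))

/-- The pull back of a torsor under a constant group, with the constant group. -/
noncomputable def bcAct {H : Over (Spec (CommRingCat.of k))} [GrpObj H] {U : Over Y}
    (c : AlgGrp.Action (Red.bc πY H) U) : AlgGrp.Action (Red.bc πX H) (Red.bc f U) :=
  (c.bc f).restrict (ActBC.bcCompIso f πY H hf).inv

theorem isTorsorFor_bcAct {H : Over (Spec (CommRingCat.of k))} [GrpObj H] {U : Over Y}
    {c : AlgGrp.Action (Red.bc πY H) U} (hc : NonAbH1.IsTorsorFor Scheme.fpqcPrecoverage c) :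
    NonAbH1.IsTorsorFor Scheme.fpqcPrecoverage (bcAct f hf c) :=
  isTorsorFor_restrict_iso (NonAbH1.isTorsorFor_bc f _ hc)

/-- The pointed torsor map obtained from the induced homomorphism. -/
theorem exists_ptTorsorHom_bc {x : Spec (CommRingCat.of k) ⟶ X} {y : Spec (CommRingCat.of k) ⟶ Y}
    (hfx : x ≫ f = y) {A B : Over (Spec (CommRingCat.of k))} [GrpObj A] [GrpObj B] {PX : Over X} {PY : Over Y}
    {aX : AlgGrp.Action (Red.bc πX A) PX} {aY : AlgGrp.Action (Red.bc πY B) PY}
    {pX : Spec (CommRingCat.of k) ⟶ PX.left} (hpX : pX ≫ PX.hom = x) {pY : Spec (CommRingCat.of k) ⟶ PY.left}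
    {φ : A ⟶ B} (hφ : NoriFGS.IsInducedHom f hf aX pX aY pY φ)
    {H : Over (Spec (CommRingCat.of k))} [GrpObj H] {U : Over Y} {c : AlgGrp.Action (Red.bc πY H) U}
    {u : Spec (CommRingCat.of k) ⟶ U.left} (hu : u ≫ U.hom = y)
    (ψ : B ⟶ H) [IsMonHom ψ] {g : PY ⟶ U} (hg : NoriFGS.IsPtTorsorHom aY pY c u ψ g)
    (χ : A ⟶ H) [IsMonHom χ] (hχ : χ = φ ≫ ψ) :
    ∃ (u' : Spec (CommRingCat.of k) ⟶ (Red.bc f U).left) (f' : PX ⟶ Red.bc f U),
      u' ≫ (Red.bc f U).hom = x ∧ u' ≫ pullback.fst U.hom f = u ∧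
      NoriFGS.IsPtTorsorHom aX pX (bcAct f hf c) u' χ f' := by
  obtain ⟨_, gφ, hgφ, hp⟩ := hφ
  let f' : PX ⟶ Red.bc f U := gφ ≫ (Over.pullback f).map g
  have hfst : ((Over.pullback f).map g).left ≫ pullback.fst U.hom f = pullback.fst PY.hom f ≫ g.left :=
    pullback.lift_fst _ _ _
  refine ⟨pX ≫ f'.left, f', by rw [Category.assoc, Over.w f', hpX], ?_, ?_, rfl⟩
  · rw [Category.assoc, Over.comp_left, Category.assoc, hfst, reassoc_of% hp, hg.2]
  · refine isEquivariant_of_points fun T γ z => ?_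
    have hbc := AlgGrp.Action.isEquivariant_bc f hg.1
    rw [AlgGrp.Action.bc_restrict] at hbc
    have key : ∀ γ' : T ⟶ Red.bc f (Red.bc πY A),
        (lift (γ' ≫ (ActBC.bcCompIso f πY A hf).hom) z ≫ aX.act) ≫ f' =
          lift (γ' ≫ (Over.pullback f).map ((Over.pullback πY).map (φ ≫ ψ))) (z ≫ f') ≫ (c.bc f).act := by
      intro γ'
      have h1 := equivariant_points hgφ γ' z
      rw [AlgGrp.Action.lift_restrict_act] at h1
      rw [← Category.assoc, h1, equivariant_points hbc]
      simp only [f', Functor.map_comp, Category.assoc]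
    have := key (γ ≫ (ActBC.bcCompIso f πY A hf).inv)
    rw [Category.assoc γ, Iso.inv_hom_id, Category.comp_id] at this
    rw [this, bcAct, AlgGrp.Action.lift_restrict_act, hχ]
    congr 2
    rw [Category.assoc, Category.assoc]
    congr 1
    rw [Iso.inv_comp_eq, ← ActBC.bcCompIso_hom_naturality_assoc, Iso.hom_inv_id, Category.comp_id]

end GrothLib.NoriFGS13
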