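import Groth.Agent.Lib.NoriFGS13.Twist
import Groth.Agent.Lib.FpqcRep.Torsor
import Groth.Agent.S14541
import Groth.Agent.Lib.AntiAffine.Image
import Mathlib.CategoryTheory.Limits.Constructions.Over.Connected
import Mathlib.AlgebraicGeometry.AffineTransitionLimit

/-!
# The universal torsor: push forward, images and Nori-reduced torsors
-/

set_option autoImplicit false

universe u

open CategoryTheory CategoryTheory.Limits MonoidalCategory CartesianMonoidalCategory MonObj AlgebraicGeometry

namespace GrothLib.NoriFGS13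

attribute [local instance] NoriFGS.ProFinPres.cat NoriFGS.ProFinPres.cofiltered NoriFGS.ProFinPres.grp
  NoriFGS.ProFinPres.finite NoriFGS.ProFinPres.isMonHom_π

section Equivariant

variable {S : Scheme.{u}} {A B C P Q R : Over S} [GrpObj A] [GrpObj B] [GrpObj C]
  {a : AlgGrp.Action A P} {b : AlgGrp.Action B Q} {c : AlgGrp.Action C R}

theorem equivariant_comp {φ : A ⟶ B} [IsMonHom φ] {ψ : B ⟶ C} [IsMonHom ψ] {χ : A ⟶ C} [IsMonHom χ]
    (hχ : χ = φ ≫ ψ) {f : P ⟶ Q} {g : Q ⟶ R}
    (hf : AlgGrp.Action.IsEquivariant a (b.restrict φ) f) (hg : AlgGrp.Action.IsEquivariant b (c.restrict ψ) g) :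
    AlgGrp.Action.IsEquivariant a (c.restrict χ) (f ≫ g) :=
  isEquivariant_of_points fun T x p => by
    rw [← Category.assoc, equivariant_points hf, equivariant_points hg, hχ]
    simp only [Category.assoc]

/-- Restriction along an isomorphism of groups preserves torsors. -/
theorem isTorsorFor_restrict_iso {K : Precoverage Scheme.{u}} {i : A ⟶ B} [IsMonHom i] [IsIso i]
    (h : NonAbH1.IsTorsorFor K b) : NonAbH1.IsTorsorFor K (b.restrict i) := by
  refine ⟨TorsorDesc.isPseudoTorsorSch_of_points (fun T x₁ x₂ => ?_) (fun T g₁ g₂ x e => ?_), h.2⟩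
  · obtain ⟨g, hg⟩ := TorsorDesc.exists_act_eq h.1 x₁ x₂
    exact ⟨g ≫ inv i, by rw [AlgGrp.Action.lift_restrict_act, Category.assoc, IsIso.inv_hom_id, Category.comp_id, hg]⟩
  · rw [AlgGrp.Action.lift_restrict_act, AlgGrp.Action.lift_restrict_act] at e
    exact (cancel_mono i).1 (TorsorDesc.act_left_injective h.1 e)

end Equivariant

variable {k : Type u} [Field k]


section ProFinite

variable {πN : Over (Spec (CommRingCat.of k))} [GrpObj πN] (p : NoriFGS.ProFinPres πN)

theorem isAffine_obj (i : p.I) : IsAffine (p.D.obj i).left := by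
  haveI := p.finite i
  exact isAffine_of_isAffineHom (p.D.obj i).hom

theorem nonempty_isLimit_forget : Nonempty (IsLimit ((Over.forget (Spec (CommRingCat.of k))).mapCone (Cone.mk πN p.π))) := by
  haveI := p.cofiltered
  haveI : IsConnected p.I := IsCofiltered.isConnected p.I
  exact ⟨isLimitOfPreserves (Over.forget (Spec (CommRingCat.of k))) p.isLimit⟩

theorem isAffine_of_isProFinite (h : NoriFGS.IsProFinite πN) : IsAffine πN.left := by
  obtain ⟨p⟩ := h
  haveI : ∀ i, IsAffine ((p.D ⋙ Over.forget (Spec (CommRingCat.of k))).obj i) := fun i => isAffine_obj p i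
  exact Scheme.isAffine_of_isLimit _ (nonempty_isLimit_forget p).some

/-- Global functions on a pro-finite group scheme come from finite stages. -/
theorem exists_appTop_eq (s : Γ(πN.left, ⊤)) :
    ∃ (i : p.I) (t : Γ((p.D.obj i).left, ⊤)),
      (show πN ⟶ p.D.obj i from p.π.app i).left.appTop t = s := by
  haveI := p.cofiltered
  haveI : ∀ i, IsAffine ((p.D ⋙ Over.forget (Spec (CommRingCat.of k))).obj i) := fun i => isAffine_obj p i
  exact exists_appTop_π_eq_of_isAffine_of_isLimit _ _ (nonempty_isLimit_forget p).some s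

theorem hom_ext_stages {T : Over (Spec (CommRingCat.of k))} {f g : T ⟶ πN}
    (h : ∀ i : p.I, f ≫ (show πN ⟶ p.D.obj i from p.π.app i) = g ≫ (show πN ⟶ p.D.obj i from p.π.app i)) :
    f = g := by
  exact p.isLimit.hom_ext h

theorem isAffineHom_bc {X : Scheme.{u}} (π : X ⟶ (Spec (CommRingCat.of k))) (A : Over (Spec (CommRingCat.of k))) [IsAffine A.left] :
    IsAffineHom (Red.bc π A).hom := by
  haveI : IsAffineHom A.hom := isAffineHom_of_isAffine _
  exact MorphismProperty.of_isPullback (P := (@IsAffineHom : MorphismProperty Scheme.{u})) (IsPullback.of_hasPullback A.hom π) ‹IsAffineHom A.hom›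

/-- The image of a homomorphism from a pro-finite group to a separated group. -/
theorem exists_image (h : NoriFGS.IsProFinite πN) {G : Over (Spec (CommRingCat.of k))} [GrpObj G] [IsFinite G.hom]
    (ψ : πN ⟶ G) [IsMonHom ψ] :
    ∃ (M : Over (Spec (CommRingCat.of k))) (_ : GrpObj M) (_ : IsFinite M.hom) (j : M ⟶ G) (_ : IsMonHom j)
      (_ : IsClosedImmersion j.left) (ψ' : πN ⟶ M) (_ : IsMonHom ψ'),
      ψ' ≫ j = ψ ∧ IsSchemeTheoreticallyDominant ψ'.left ∧ QuasiCompact ψ'.left := by
  haveI := isAffine_of_isProFinite h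
  haveI : IsAffine G.left := isAffine_of_isAffineHom G.hom
  obtain ⟨M, g, j, hj, hjc, ψ', e, hd, hq⟩ := GrothLib.AntiAffine.exists_image_subgroup ψ
  haveI : Mono j := mono_of_isClosedImmersion j
  haveI : IsMonHom ψ' :=
    { one_hom := by rw [← cancel_mono j, Category.assoc, e, IsMonHom.one_hom, IsMonHom.one_hom]
      mul_hom := by
        rw [← cancel_mono j, Category.assoc, e, IsMonHom.mul_hom, Category.assoc, IsMonHom.mul_hom (f := j),
          tensorHom_comp_tensorHom_assoc, e] }
  haveI : IsFinite M.hom := by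
    haveI : IsFinite j.left := inferInstance
    rw [← Over.w j]; infer_instance
  exact ⟨M, g, inferInstance, j, hj, hjc, ψ', inferInstance, e, hd, hq⟩

end ProFinite

variable {X : Scheme.{u}} [X.Over (Spec (CommRingCat.of k))]

local notation "πX" => (X ↘ Spec (CommRingCat.of k))
local notation "F" => Over.pullback (X ↘ Spec (CommRingCat.of k))

variable {πN : Over (Spec (CommRingCat.of k))} [GrpObj πN] {P : Over X} {a : AlgGrp.Action (Red.bc (X ↘ Spec (CommRingCat.of k)) πN) P}
  {p : (Spec (CommRingCat.of k)) ⟶ P.left} {x : (Spec (CommRingCat.of k)) ⟶ X}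

/-- Push forward of the universal torsor. -/
theorem exists_push (hX : NoriFGS.IsFGS x πN a p) {G : Over (Spec (CommRingCat.of k))} [GrpObj G] [IsFinite G.hom]
    (ψ : πN ⟶ G) [IsMonHom ψ] :
    ∃ (T : Over X) (b : AlgGrp.Action (Red.bc πX G) T) (t : (Spec (CommRingCat.of k)) ⟶ T.left) (f : P ⟶ T),
      NonAbH1.IsTorsorFor Scheme.fpqcPrecoverage b ∧ t ≫ T.hom = x ∧ NoriFGS.IsPtTorsorHom a p b t ψ f := by
  haveI : IsAffine G.left := isAffine_of_isAffineHom G.hom
  haveI := isAffineHom_bc πX G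
  obtain ⟨T, b, hb, f, hf⟩ := FpqcRep.exists_pushforward ((F).map ψ) a hX.2.1
  refine ⟨T, b, p ≫ f.left, f, hb, ?_, ?_, rfl⟩
  · rw [Category.assoc, Over.w f, hX.2.2.1]
  · refine isEquivariant_of_points fun R g z => ?_
    rw [Category.assoc, hf, ← Category.assoc, comp_lift, lift_fst_assoc, lift_snd_assoc]

/-- A pointed torsor receiving the universal one through a dominant homomorphism is Nori-reduced. -/
theorem isNoriReduced_of_dominant (hx : x ≫ πX = 𝟙 _) (hX : NoriFGS.IsFGS x πN a p)
    {G : Over (Spec (CommRingCat.of k))} [GrpObj G] [IsFinite G.hom] {T : Over X} {b : AlgGrp.Action (Red.bc πX G) T}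
    (hb : NonAbH1.IsTorsorFor Scheme.fpqcPrecoverage b) {t : (Spec (CommRingCat.of k)) ⟶ T.left} (ht : t ≫ T.hom = x)
    (ψ : πN ⟶ G) [IsMonHom ψ] [IsSchemeTheoreticallyDominant ψ.left] {f : P ⟶ T}
    (hf : NoriFGS.IsPtTorsorHom a p b t ψ f) :
    NoriFGS.IsNoriReduced Scheme.fpqcPrecoverage b := by
  intro H _ i _ _ V j _ c hc heq
  obtain ⟨K', _, _, i', _, _, V', j', _, c', hc', heq', ⟨v, hv⟩, hiso⟩ :=
    exists_twist x hx b hb t ht i j c hc heq
  refine hiso ?_
  have hv' : v ≫ V'.hom = x := by rw [← Over.w j', reassoc_of% hv, ht]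
  obtain ⟨ψ', _, f', ⟨hf', hp'⟩, -⟩ := hX.2.2.2 K' V' c' v hc' hv'
  obtain ⟨φ₀, _, f₀, -, huniq⟩ := hX.2.2.2 G T b t hb ht
  have hcomp : AlgGrp.Action.IsEquivariant a (b.restrict ((F).map (ψ' ≫ i'))) (f' ≫ j') :=
    equivariant_comp ((F).map_comp ψ' i') hf' heq'
  have e : ψ' ≫ i' = ψ :=
    (huniq (ψ' ≫ i') (f' ≫ j') ⟨hcomp, by rw [Over.comp_left, reassoc_of% hp', hv]⟩).1.trans (huniq ψ f hf).1.symm
  haveI : IsIso i'.left := by
    refine IsClosedImmersion.isIso_iff_ker_eq_bot.mpr (le_bot_iff.mp ?_)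
    rw [← ψ.left.ker_eq_bot, ← e]
    exact Scheme.Hom.le_ker_comp _ _
  haveI : IsIso i' := by
    haveI : IsIso ((Over.forget _).map i') := inferInstanceAs (IsIso i'.left)
    exact isIso_of_reflects_iso i' (Over.forget _)
  exact isIso_of_equivariant hc' hb.1 ((F).map i') j' heq'

/-- The homomorphism classifying a Nori-reduced pointed torsor is dominant. -/
theorem dominant_of_isNoriReduced (hx : x ≫ πX = 𝟙 _) (hX : NoriFGS.IsFGS x πN a p)
    {G : Over (Spec (CommRingCat.of k))} [GrpObj G] [IsFinite G.hom] {T : Over X} {b : AlgGrp.Action (Red.bc πX G) T}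
    (hb : NonAbH1.IsTorsorFor Scheme.fpqcPrecoverage b) {t : (Spec (CommRingCat.of k)) ⟶ T.left} (ht : t ≫ T.hom = x)
    (hred : NoriFGS.IsNoriReduced Scheme.fpqcPrecoverage b)
    (ψ : πN ⟶ G) [IsMonHom ψ] {f : P ⟶ T} (hf : NoriFGS.IsPtTorsorHom a p b t ψ f) :
    IsSchemeTheoreticallyDominant ψ.left := by
  obtain ⟨M, _, _, j, _, hjc, ψM, _, hψM, hd, -⟩ := exists_image hX.1 ψ
  obtain ⟨TM, bM, tM, fM, hbM, htM, hfM⟩ := exists_push hX ψM
  haveI := isAffine_of_isProFinite hX.1
  haveI : IsAffine G.left := isAffine_of_isAffineHom G.hom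
  haveI : IsAffine M.left := isAffine_of_isAffineHom M.hom
  haveI := isAffineHom_bc πX πN
  haveI := isAffineHom_bc πX M
  haveI := isAffineHom_bc πX G
  have hq : a.act ≫ fM = lift (fst _ P ≫ (F).map ψM) (snd _ P ≫ fM) ≫ bM.act := by
    refine AlgGrp.Action.hom_ext_lift₂ fun R g z => ?_
    rw [← Category.assoc, equivariant_points hfM.1, comp_lift_assoc, lift_fst_assoc, lift_snd_assoc]
  have hq' : a.act ≫ f = lift (fst _ P ≫ (F).map ψM ≫ (F).map j) (snd _ P ≫ f) ≫ b.act := by
    refine AlgGrp.Action.hom_ext_lift₂ fun R g z => ?_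
    rw [← Category.assoc, equivariant_points hf.1, comp_lift_assoc, lift_fst_assoc, lift_snd_assoc,
      ← (F).map_comp, hψM]
  obtain ⟨r, ⟨hr, hr'⟩, -⟩ := Groth.Agent.S14541.result ((F).map ψM) ((F).map j) a bM b hX.2.1 hbM hb fM hq f hq'
  have heq : AlgGrp.Action.IsEquivariant bM (b.restrict ((F).map j)) r :=
    isEquivariant_of_points fun R g z => by
      rw [Category.assoc, hr, comp_lift_assoc, lift_fst_assoc, lift_snd_assoc]
  haveI : IsClosedImmersion ((F).map j).left := by
    have hsq : IsPullback (pullback.fst M.hom πX) ((F).map j).left j.left (pullback.fst G.hom πX) := by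
      refine IsPullback.of_bot ?_ (pullback.lift_fst _ _ _).symm (IsPullback.of_hasPullback G.hom πX)
      rw [Over.w j]
      erw [pullback.lift_snd]
      exact IsPullback.of_hasPullback M.hom πX
    exact MorphismProperty.of_isPullback (P := (@IsClosedImmersion : MorphismProperty Scheme.{u})) hsq hjc
  haveI := isClosedImmersion_of_equivariant hbM hb.1 ((F).map j) r heq
  haveI : IsIso r := hred M j TM r bM hbM heq
  -- the closed immersion of groups is an isomorphism
  let ptT : pt x ⟶ T := Over.homMk t ht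
  let ptM : pt x ⟶ TM := Over.homMk tM htM
  have hrt : ptM ≫ r = ptT := Over.OverMorphism.ext (by
    show tM ≫ r.left = t
    rw [← hfM.2, Category.assoc, ← Over.comp_left, hr', hf.2])
  obtain ⟨g, hg⟩ := TorsorDesc.exists_act_eq hbM.1
    ((lift (ofY πX x hx (𝟙 G)) (toPt x G ≫ ptT) ≫ b.act) ≫ inv r) (toPt x G ≫ ptM)
  obtain ⟨g₀, rfl⟩ := exists_ofY πX x hx g
  have hsec : g₀ ≫ j = 𝟙 G := by
    refine ofY_injective πX x hx (TorsorDesc.act_left_injective hb.1 (p := toPt x G ≫ ptT) ?_)
    rw [ofY_comp]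
    have := congrArg (· ≫ r) hg
    simp only [equivariant_points heq, Category.assoc, IsIso.inv_hom_id, Category.comp_id, hrt] at this
    exact this
  haveI := mono_of_isClosedImmersion j
  haveI : IsIso j := ⟨g₀, by rw [← cancel_mono j, Category.assoc, hsec, Category.comp_id, Category.id_comp], hsec⟩
  haveI : IsIso j.left := inferInstanceAs (IsIso ((Over.forget _).map j))
  rw [← hψM, Over.comp_left]
  infer_instance

end GrothLib.NoriFGS13
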