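import Groth.Prelude.Def_ActBC
import Groth.Prelude.Def_Red
import Groth.Agent.Lib.NoriFGS13.Gen

/-!
# Points of constant group schemes over a scheme over a field, and points over a rational point
-/

set_option autoImplicit false

universe u

open CategoryTheory CategoryTheory.Limits MonoidalCategory CartesianMonoidalCategory MonObj AlgebraicGeometry

namespace GrothLib.NoriFGS13

variable {X K : Scheme.{u}} (π : X ⟶ K)

section toBase

variable {A B : Over K} {T T' : Over X}

/-- A point of a constant scheme as a point over the base. -/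
noncomputable def toB (g : T ⟶ Red.bc π A) : (Over.map π).obj T ⟶ A :=
  ((Over.mapPullbackAdj π).homEquiv T A).symm g

/-- A point over the base as a point of a constant scheme. -/
noncomputable def ofB (g : (Over.map π).obj T ⟶ A) : T ⟶ Red.bc π A :=
  (Over.mapPullbackAdj π).homEquiv T A g

@[simp] theorem toB_ofB (g : (Over.map π).obj T ⟶ A) : toB π (ofB π g) = g := Equiv.symm_apply_apply _ _

@[simp] theorem ofB_toB (g : T ⟶ Red.bc π A) : ofB π (toB π g) = g := Equiv.apply_symm_apply _ _

theorem ofB_comp (g : (Over.map π).obj T ⟶ A) (φ : A ⟶ B) :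
    ofB π (g ≫ φ) = ofB π g ≫ (Over.pullback π).map φ :=
  Adjunction.homEquiv_naturality_right _ _ _

theorem ofB_precomp (t : T' ⟶ T) (g : (Over.map π).obj T ⟶ A) :
    ofB π ((Over.map π).map t ≫ g) = t ≫ ofB π g :=
  Adjunction.homEquiv_naturality_left _ _ _

theorem toB_comp (g : T ⟶ Red.bc π A) (φ : A ⟶ B) :
    toB π (g ≫ (Over.pullback π).map φ) = toB π g ≫ φ :=
  Adjunction.homEquiv_naturality_right_symm _ _ _

theorem toB_precomp (t : T' ⟶ T) (g : T ⟶ Red.bc π A) :
    toB π (t ≫ g) = (Over.map π).map t ≫ toB π g :=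
  Adjunction.homEquiv_naturality_left_symm _ _ _

theorem toB_injective {g h : T ⟶ Red.bc π A} (e : toB π g = toB π h) : g = h := by
  rw [← ofB_toB π g, e, ofB_toB]

theorem ofB_mul [GrpObj A] (g g' : (Over.map π).obj T ⟶ A) : ofB π (g * g') = ofB π g * ofB π g' :=
  AlgGrp.Action.homEquiv_mul π g g'

theorem toB_mul [GrpObj A] (g g' : T ⟶ Red.bc π A) : toB π (g * g') = toB π g * toB π g' := by
  conv_lhs => rw [← ofB_toB π g, ← ofB_toB π g', ← ofB_mul, toB_ofB]

theorem fac_map_iff {j : B ⟶ A} (g : T ⟶ Red.bc π A) : Fac ((Over.pullback π).map j) g ↔ Fac j (toB π g) := by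
  constructor
  · rintro ⟨w, rfl⟩
    exact ⟨toB π w, (toB_comp π w j).symm⟩
  · rintro ⟨w, hw⟩
    exact ⟨ofB π w, by rw [← ofB_comp, hw, ofB_toB]⟩

end toBase

section point

variable (y : K ⟶ X) (hy : y ≫ π = 𝟙 K) {A B : Over K} {T T' : Over K}

/-- A scheme over the base seen over `X` through a rational point. -/
noncomputable abbrev atPt (T : Over K) : Over X := (Over.map y).obj T

/-- The rational point as a scheme over `X`. -/
noncomputable abbrev pt : Over X := Over.mk y

/-- The projection to the rational point. -/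
noncomputable def toPt (T : Over K) : atPt y T ⟶ pt y := Over.homMk T.hom rfl

theorem map_toPt (t : T' ⟶ T) : (Over.map y).map t ≫ toPt y T = toPt y T' :=
  Over.OverMorphism.ext (Over.w t)

include hy in
/-- Going to the point and back is the identity. -/
theorem hom_atPt (T : Over K) : ((Over.map π).obj (atPt y T)).hom = T.hom := by
  show (T.hom ≫ y) ≫ π = T.hom
  rw [Category.assoc, hy, Category.comp_id]

/-- The comparison with the original scheme. -/
noncomputable def ptIso (T : Over K) : (Over.map π).obj (atPt y T) ≅ T :=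
  Over.isoMk (Iso.refl _) (by
    show 𝟙 _ ≫ T.hom = _
    rw [Category.id_comp, hom_atPt π y hy])

/-- A point over the base as a point over the rational point. -/
noncomputable def ofY (g : T ⟶ A) : atPt y T ⟶ Red.bc π A := ofB π ((ptIso π y hy T).hom ≫ g)

theorem ofY_comp (g : T ⟶ A) (φ : A ⟶ B) : ofY π y hy (g ≫ φ) = ofY π y hy g ≫ (Over.pullback π).map φ := by
  rw [ofY, ofY, ← ofB_comp, Category.assoc]

theorem ofY_precomp (t : T' ⟶ T) (g : T ⟶ A) : ofY π y hy (t ≫ g) = (Over.map y).map t ≫ ofY π y hy g := by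
  rw [ofY, ofY, ← ofB_precomp]
  congr 1

theorem ofY_mul [GrpObj A] (g g' : T ⟶ A) : ofY π y hy (g * g') = ofY π y hy g * ofY π y hy g' := by
  rw [ofY, MonObj.comp_mul, ofB_mul]; rfl

theorem ofY_injective {g g' : T ⟶ A} (e : ofY π y hy g = ofY π y hy g') : g = g' := by
  have := congrArg (toB π) e
  rw [ofY, ofY, toB_ofB, toB_ofB] at this
  exact (cancel_epi _).1 this

theorem exists_ofY (g : atPt y T ⟶ Red.bc π A) : ∃ h : T ⟶ A, ofY π y hy h = g :=
  ⟨(ptIso π y hy T).inv ≫ toB π g, by rw [ofY, Iso.hom_inv_id_assoc, ofB_toB]⟩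

end point

end GrothLib.NoriFGS13
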