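import Groth.Agent.Lib.NoriFGS13.Transfer
import Groth.Prelude.Def_NoriFGS
import Groth.Agent.Lib.AlgSp.FieldBase

/-!
# Moving a sub-torsor through the marked point
-/

set_option autoImplicit false

universe u

open CategoryTheory CategoryTheory.Limits MonoidalCategory CartesianMonoidalCategory MonObj AlgebraicGeometry

namespace GrothLib.NoriFGS13

section Action

variable {S : Scheme.{u}} {G G' U V : Over S} [GrpObj G] [GrpObj G']

/-- The action on a stable subobject. -/
theorem exists_action_of_mono (i : G' ⟶ G) [IsMonHom i] (b : AlgGrp.Action G U) (j : V ⟶ U) [Mono j]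
    (h : ∀ (T : Over S) (g : T ⟶ G') (v : T ⟶ V), Fac j (lift (g ≫ i) (v ≫ j) ≫ b.act)) :
    ∃ b' : AlgGrp.Action G' V, AlgGrp.Action.IsEquivariant b' (b.restrict i) j := by
  obtain ⟨m, hm⟩ := h (G' ⊗ V) (fst G' V) (snd G' V)
  have hpt : ∀ {T : Over S} (g : T ⟶ G') (v : T ⟶ V),
      (lift g v ≫ m) ≫ j = lift (g ≫ i) (v ≫ j) ≫ b.act := by
    intro T g v
    rw [Category.assoc, hm, ← Category.assoc, comp_lift, lift_fst_assoc, lift_snd_assoc]
  let b' : AlgGrp.Action G' V :=
    { act := m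
      one_act := by
        rw [← cancel_mono j]
        refine AlgGrp.Action.hom_ext_lift₂ fun T z v => ?_
        rw [Category.assoc, lift_whiskerRight_assoc, ← Category.assoc, hpt, Category.assoc z, IsMonHom.one_hom,
          toUnit_unique z (toUnit T), ← Hom.one_def, AlgGrp.Action.lift_one_act, leftUnitor_hom, lift_snd_assoc]
      mul_act := by
        rw [← cancel_mono j]
        refine AlgGrp.Action.hom_ext_lift₃ fun T g g' v => ?_
        rw [Category.assoc, lift_whiskerRight_assoc, ← Category.assoc, hpt, ← Hom.mul_def, MonObj.mul_comp,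
          AlgGrp.Action.lift_mul_act, Category.assoc, Category.assoc, lift_lift_associator_hom_assoc,
          lift_whiskerLeft_assoc, ← Category.assoc (lift g _) m j, hpt, hpt] }
  exact ⟨b', isEquivariant_of_points fun T g v => hpt g v⟩

end Action

variable {k : Type u} [Field k] {X : Scheme.{u}} [X.Over (Spec (CommRingCat.of k))]

local notation "Sk" => Spec (CommRingCat.of k)
local notation "πX" => (X ↘ Spec (CommRingCat.of k))
local notation "F" => Over.pullback (X ↘ Spec (CommRingCat.of k))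

/-- The sub-torsor through the marked point obtained from a given sub-torsor. -/
theorem exists_twist (y : Sk ⟶ X) (hy : y ≫ πX = 𝟙 _)
    {H : Over Sk} [GrpObj H] [IsFinite H.hom] {U : Over X}
    (b : AlgGrp.Action (Red.bc πX H) U) (hb : NonAbH1.IsTorsorFor Scheme.fpqcPrecoverage b)
    (u₀ : Sk ⟶ U.left) (hu₀ : u₀ ≫ U.hom = y)
    {K : Over Sk} [GrpObj K] (i : K ⟶ H) [IsMonHom i] [IsClosedImmersion i.left]
    {V : Over X} (j : V ⟶ U) [IsClosedImmersion j.left]
    (a : AlgGrp.Action (Red.bc πX K) V) (ha : NonAbH1.IsTorsorFor Scheme.fpqcPrecoverage a)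
    (heq : AlgGrp.Action.IsEquivariant a (b.restrict ((F).map i)) j) :
    ∃ (K' : Over Sk) (_ : GrpObj K') (_ : IsFinite K'.hom) (i' : K' ⟶ H) (_ : IsMonHom i')
      (_ : IsClosedImmersion i'.left) (V' : Over X) (j' : V' ⟶ U) (_ : IsClosedImmersion j'.left)
      (a' : AlgGrp.Action (Red.bc πX K') V'),
      NonAbH1.IsTorsorFor Scheme.fpqcPrecoverage a' ∧
      AlgGrp.Action.IsEquivariant a' (b.restrict ((F).map i')) j' ∧
      (∃ v : Sk ⟶ V'.left, v ≫ j'.left = u₀) ∧ (IsIso j' → IsIso j) := by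
  haveI := mono_of_isClosedImmersion j
  haveI := mono_of_isClosedImmersion i
  let ptU : pt y ⟶ U := Over.homMk u₀ hu₀
  -- the fibre of the sub-torsor, seen in the group
  let o : atPt y H ⟶ U := lift (ofY πX y hy (𝟙 H)) (toPt y H ≫ ptU) ≫ b.act
  have ho : ∀ {T : Over Sk} (h : T ⟶ H),
      (Over.map y).map h ≫ o = lift (ofY πX y hy h) (toPt y T ≫ ptU) ≫ b.act := by
    intro T h
    rw [comp_lift_assoc, ← ofY_precomp, Category.comp_id, ← Category.assoc, map_toPt]
  let C : Over Sk := Over.mk (pullback.fst o.left j.left ≫ H.hom)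
  let ic : C ⟶ H := Over.homMk (pullback.fst o.left j.left) rfl
  haveI hic : IsClosedImmersion ic.left :=
    MorphismProperty.of_isPullback (P := (@IsClosedImmersion : MorphismProperty Scheme.{u}))
      (IsPullback.of_hasPullback o.left j.left).flip ‹IsClosedImmersion j.left›
  haveI := mono_of_isClosedImmersion ic
  have hCfac : ∀ {T : Over Sk} (h : T ⟶ H),
      Fac ic h ↔ Fac j (lift (ofY πX y hy h) (toPt y T ≫ ptU) ≫ b.act) := by
    intro T h
    constructor
    · rintro ⟨c, rfl⟩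
      rw [← ho]
      let q : atPt y C ⟶ V := Over.homMk (pullback.snd o.left j.left) (by
        show pullback.snd o.left j.left ≫ V.hom = (pullback.fst o.left j.left ≫ H.hom) ≫ y
        rw [← Over.w j, ← pullback.condition_assoc, Over.w o, Category.assoc]
        rfl)
      refine ⟨(Over.map y).map c ≫ q, ?_⟩
      rw [Functor.map_comp, Category.assoc, Category.assoc]
      congr 1
      exact Over.OverMorphism.ext pullback.condition.symm
    · rintro ⟨v, hv⟩
      rw [← ho] at hv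
      refine ⟨Over.homMk (pullback.lift h.left v.left (congrArg CommaMorphism.left hv).symm) ?_, ?_⟩
      · show _ ≫ pullback.fst o.left j.left ≫ H.hom = _
        rw [pullback.lift_fst_assoc, Over.w h]
      · exact Over.OverMorphism.ext (pullback.lift_fst _ _ _)
  have hC1 : ∀ {T : Over Sk} (h₁ h₂ : T ⟶ H), Fac ic h₁ → Fac ic h₂ → ∃ κ : T ⟶ K, (κ ≫ i) * h₁ = h₂ := by
    intro T h₁ h₂ H₁ H₂
    obtain ⟨v₁, hv₁⟩ := (hCfac h₁).1 H₁
    obtain ⟨v₂, hv₂⟩ := (hCfac h₂).1 H₂
    obtain ⟨κ', hκ'⟩ := TorsorDesc.exists_act_eq ha.1 v₂ v₁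
    obtain ⟨κ, rfl⟩ := exists_ofY πX y hy κ'
    refine ⟨κ, ofY_injective πX y hy (TorsorDesc.act_left_injective hb.1 (p := toPt y T ≫ ptU) ?_)⟩
    rw [ofY_mul, AlgGrp.Action.lift_mul_act, ← hv₁, ← hv₂, ← hκ', ofY_comp, equivariant_points heq]
  have hC2 : ∀ {T : Over Sk} (κ : T ⟶ K) (h : T ⟶ H), Fac ic h → Fac ic ((κ ≫ i) * h) := by
    intro T κ h Hh
    obtain ⟨v, hv⟩ := (hCfac h).1 Hh
    refine (hCfac _).2 ⟨lift (ofY πX y hy κ) v ≫ a.act, ?_⟩
    rw [equivariant_points heq, hv, ofY_mul, AlgGrp.Action.lift_mul_act, ofY_comp]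
  -- the fibre is not empty
  have hCne : Nonempty C.left := by
    obtain ⟨R, hR, hsec⟩ := ha.2
    obtain ⟨κ₀, W, g, hg, href⟩ := FpqcRep.exists_small_refinement hR
    obtain ⟨-, -, hsurj⟩ := FpqcCov.quasiCompactCover_and_flat g hg
    obtain ⟨i₀, z, hz⟩ := hsurj (y (IsLocalRing.closedPoint k))
    obtain ⟨Z, f, k₀, hf, hk⟩ := href i₀
    obtain ⟨s, hs⟩ := hsec f hf
    obtain ⟨w, hw₁, hw₂⟩ := Scheme.Pullback.exists_preimage_pullback (f := g i₀) (g := y) z
      (IsLocalRing.closedPoint k) hz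
    let T : Over Sk := Over.mk (pullback.snd (g i₀) y)
    let vT : atPt y T ⟶ V := Over.homMk (pullback.fst (g i₀) y ≫ k₀ ≫ s) (by
      show (pullback.fst (g i₀) y ≫ k₀ ≫ s) ≫ V.hom = pullback.snd (g i₀) y ≫ y
      rw [Category.assoc, Category.assoc, hs, hk, pullback.condition])
    obtain ⟨h', hh'⟩ := TorsorDesc.exists_act_eq hb.1 (vT ≫ j) (toPt y T ≫ ptU)
    obtain ⟨h, rfl⟩ := exists_ofY πX y hy h'
    obtain ⟨c, -⟩ := (hCfac h).2 ⟨vT, hh'.symm⟩
    exact ⟨c.left w⟩
  haveI : IsFinite C.hom := by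
    haveI : IsFinite ic.left := inferInstance
    rw [← Over.w ic]; infer_instance
  haveI : Flat C.hom := GrothLib.AlgSp.flat_to_field _
  haveI : Surjective C.hom := ⟨fun p => ⟨hCne.some, Subsingleton.elim _ _⟩⟩
  haveI : Flat (snd C H).left := inferInstanceAs (Flat (pullback.snd C.hom H.hom))
  haveI : QuasiCompact (snd C H).left := inferInstanceAs (QuasiCompact (pullback.snd C.hom H.hom))
  -- the stabiliser
  let m : C ⊗ H ⟶ H := (fst C H ≫ ic) * snd C H
  let W : Over Sk := Over.mk (pullback.fst m.left ic.left ≫ (C ⊗ H).hom)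
  let jW : W ⟶ C ⊗ H := Over.homMk (pullback.fst m.left ic.left) rfl
  haveI : IsClosedImmersion jW.left :=
    MorphismProperty.of_isPullback (P := (@IsClosedImmersion : MorphismProperty Scheme.{u}))
      (IsPullback.of_hasPullback m.left ic.left).flip ‹IsClosedImmersion ic.left›
  have hWfac : ∀ {T : Over Sk} (x : T ⟶ C ⊗ H), Fac jW x ↔ Fac ic (x ≫ m) := by
    intro T x
    constructor
    · rintro ⟨w, rfl⟩
      refine ⟨Over.homMk (w.left ≫ pullback.snd m.left ic.left) ?_, ?_⟩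
      · rw [Category.assoc, ← Over.w ic, ← pullback.condition_assoc, Over.w m]
        exact Over.w w
      · apply Over.OverMorphism.ext
        show (w.left ≫ pullback.snd m.left ic.left) ≫ ic.left = (w.left ≫ pullback.fst m.left ic.left) ≫ m.left
        rw [Category.assoc, Category.assoc, pullback.condition]
    · rintro ⟨c, hc⟩
      refine ⟨Over.homMk (pullback.lift x.left c.left (congrArg CommaMorphism.left hc).symm) ?_, ?_⟩
      · show _ ≫ pullback.fst m.left ic.left ≫ _ = _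
        rw [pullback.lift_fst_assoc, Over.w x]
      · exact Over.OverMorphism.ext (pullback.lift_fst _ _ _)
  have hm : ∀ {T : Over Sk} (x : T ⟶ C ⊗ H), x ≫ m = ((x ≫ fst C H) ≫ ic) * (x ≫ snd C H) := by
    intro T x; rw [MonObj.comp_mul, ← Category.assoc]
  obtain ⟨K', i', hi', hK'⟩ := exists_closed_desc (snd C H) jW (fun T x₁ x₂ hx hx₁ => by
    rw [hWfac, hm] at hx₁ ⊢
    obtain ⟨κ, hκ⟩ := hC1 _ _ (fac_self ic (x₁ ≫ fst C H)) (fac_self ic (x₂ ≫ fst C H))
    rw [← hx, ← hκ, _root_.mul_assoc]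
    exact hC2 κ _ hx₁)
  haveI := hi'
  haveI := mono_of_isClosedImmersion i'
  have hcrit : ∀ {T : Over Sk} (h : T ⟶ H) (c : T ⟶ C), Fac i' h ↔ Fac ic ((c ≫ ic) * h) := by
    intro T h c
    have e := hK' T (lift c h)
    rw [lift_snd, hWfac, hm, lift_fst, lift_snd] at e
    exact e
  have hloc : ∀ {T : Over Sk} (h : T ⟶ H), Fac i' (snd C T ≫ h) → Fac i' h := by
    intro T h hh
    haveI : Flat (snd C T).left := inferInstanceAs (Flat (pullback.snd C.hom T.hom))
    haveI : Surjective (snd C T).left := inferInstanceAs (Surjective (pullback.snd C.hom T.hom))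
    haveI : QuasiCompact (snd C T).left := inferInstanceAs (QuasiCompact (pullback.snd C.hom T.hom))
    exact fac_of_effectiveEpi (snd C T) hh
  obtain ⟨grp, hmon⟩ := GrothLib.EssFree.exists_grpObj_of_mono i'
    (fun T => by
      refine hloc (1 : T ⟶ H) ((hcrit _ (fst C T)).2 ?_)
      rw [MonObj.comp_one, _root_.mul_one]
      exact fac_self ic _)
    (fun T h h' => by
      refine hloc _ ((hcrit _ (fst C T)).2 ?_)
      obtain ⟨c₂, hc₂⟩ := (hcrit _ (fst C T)).1 ((fac_self i' h).comp (snd C T))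
      rw [MonObj.comp_mul, ← _root_.mul_assoc, ← hc₂]
      exact (hcrit _ c₂).1 ((fac_self i' h').comp (snd C T)))
    (fun T h => by
      refine hloc _ ((hcrit _ (fst C T)).2 ?_)
      have H₂ := (hcrit _ (fst C T)).1 ((fac_self i' h).comp (snd C T))
      obtain ⟨κ, hκ⟩ := hC1 _ _ H₂ (fac_self ic (fst C T))
      rw [GrpObj.comp_inv, ← hκ, ← _root_.mul_assoc, mul_inv_cancel_right]
      exact hC2 κ _ (fac_self ic (fst C T)))
  haveI := hmon
  haveI : IsFinite K'.hom := by
    haveI : IsFinite i'.left := inferInstance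
    rw [← Over.w i']; infer_instance
  -- over `X`
  let FC : Over X := Red.bc πX C
  let fc : FC ⟶ Red.bc πX H := (F).map ic
  haveI : Flat FC.hom := inferInstanceAs (Flat (pullback.snd C.hom πX))
  haveI : Surjective FC.hom := inferInstanceAs (Surjective (pullback.snd C.hom πX))
  haveI : QuasiCompact FC.hom := inferInstanceAs (QuasiCompact (pullback.snd C.hom πX))
  have hXflat : ∀ T : Over X, Flat (snd FC T).left ∧ Surjective (snd FC T).left ∧ QuasiCompact (snd FC T).left :=
    fun T => ⟨inferInstanceAs (Flat (pullback.snd FC.hom T.hom)),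
      inferInstanceAs (Surjective (pullback.snd FC.hom T.hom)),
      inferInstanceAs (QuasiCompact (pullback.snd FC.hom T.hom))⟩
  have hC1X : ∀ {T : Over X} (c₁ c₂ : T ⟶ FC), ∃ κ : T ⟶ Red.bc πX K, (κ ≫ (F).map i) * (c₁ ≫ fc) = c₂ ≫ fc := by
    intro T c₁ c₂
    obtain ⟨κ, hκ⟩ := hC1 _ _ (fac_self ic (toB πX c₁)) (fac_self ic (toB πX c₂))
    refine ⟨ofB πX κ, toB_injective πX ?_⟩
    rw [toB_mul, toB_comp, toB_ofB, toB_comp, toB_comp, hκ]
  have hC2X : ∀ {T : Over X} (κ : T ⟶ Red.bc πX K) (h : T ⟶ Red.bc πX H),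
      Fac fc h → Fac fc ((κ ≫ (F).map i) * h) := by
    intro T κ h hh
    rw [fac_map_iff] at hh ⊢
    rw [toB_mul, toB_comp]
    exact hC2 _ _ hh
  have hcritX : ∀ {T : Over X} (h : T ⟶ Red.bc πX H) (c : T ⟶ FC),
      Fac ((F).map i') h ↔ Fac fc ((c ≫ fc) * h) := by
    intro T h c
    rw [fac_map_iff, fac_map_iff, toB_mul, toB_comp]
    exact hcrit _ _
  -- points of the fibre move the marked point into the sub-torsor
  have hpt : ∀ {T : Over X} (t : T ⟶ pt y) (c : T ⟶ FC), Fac j (lift (c ≫ fc) (t ≫ ptU) ≫ b.act) := by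
    intro T t c
    let Tk : Over Sk := Over.mk t.left
    let e : T ⟶ atPt y Tk := Over.homMk (𝟙 T.left) (by
      show 𝟙 _ ≫ t.left ≫ y = _
      rw [Category.id_comp]; exact Over.w t)
    haveI : IsIso e := by
      haveI : IsIso ((Over.forget X).map e) := inferInstanceAs (IsIso (𝟙 T.left))
      exact isIso_of_reflects_iso e (Over.forget X)
    obtain ⟨c₀, hc₀⟩ := exists_ofY πX y hy (inv e ≫ c)
    have ht : e ≫ toPt y Tk = t := Over.OverMorphism.ext (Category.id_comp _)
    have := ((hCfac _).1 (fac_self ic c₀)).comp e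
    rwa [comp_lift_assoc, ofY_comp, hc₀, Category.assoc, IsIso.hom_inv_id_assoc, ← Category.assoc e, ht] at this
  let m' : FC ⊗ U ⟶ U := lift (fst FC U ≫ fc) (snd FC U) ≫ b.act
  let W' : Over X := Over.mk (pullback.fst m'.left j.left ≫ (FC ⊗ U).hom)
  let jW' : W' ⟶ FC ⊗ U := Over.homMk (pullback.fst m'.left j.left) rfl
  haveI : IsClosedImmersion jW'.left :=
    MorphismProperty.of_isPullback (P := (@IsClosedImmersion : MorphismProperty Scheme.{u}))
      (IsPullback.of_hasPullback m'.left j.left).flip ‹IsClosedImmersion j.left›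
  have hW'fac : ∀ {T : Over X} (x : T ⟶ FC ⊗ U), Fac jW' x ↔ Fac j (x ≫ m') := by
    intro T x
    constructor
    · rintro ⟨w, rfl⟩
      refine ⟨Over.homMk (w.left ≫ pullback.snd m'.left j.left) ?_, ?_⟩
      · rw [Category.assoc, ← Over.w j, ← pullback.condition_assoc, Over.w m']
        exact Over.w w
      · apply Over.OverMorphism.ext
        show (w.left ≫ pullback.snd m'.left j.left) ≫ j.left = (w.left ≫ pullback.fst m'.left j.left) ≫ m'.left
        rw [Category.assoc, Category.assoc, pullback.condition]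
    · rintro ⟨c, hc⟩
      refine ⟨Over.homMk (pullback.lift x.left c.left (congrArg CommaMorphism.left hc).symm) ?_, ?_⟩
      · show _ ≫ pullback.fst m'.left j.left ≫ _ = _
        rw [pullback.lift_fst_assoc, Over.w x]
      · exact Over.OverMorphism.ext (pullback.lift_fst _ _ _)
  have hm' : ∀ {T : Over X} (x : T ⟶ FC ⊗ U),
      x ≫ m' = lift ((x ≫ fst FC U) ≫ fc) (x ≫ snd FC U) ≫ b.act := by
    intro T x; rw [comp_lift_assoc, Category.assoc]
  haveI := (hXflat U).1
  haveI := (hXflat U).2.2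
  obtain ⟨V', j', hj', hV'⟩ := exists_closed_desc (snd FC U) jW' (fun T x₁ x₂ hx hx₁ => by
    rw [hW'fac, hm'] at hx₁ ⊢
    obtain ⟨κ, hκ⟩ := hC1X (x₁ ≫ fst FC U) (x₂ ≫ fst FC U)
    obtain ⟨v, hv⟩ := hx₁
    refine ⟨lift κ v ≫ a.act, ?_⟩
    rw [equivariant_points heq, hv, ← hx, ← hκ, AlgGrp.Action.lift_mul_act])
  haveI := hj'
  haveI := mono_of_isClosedImmersion j'
  have hcritV : ∀ {T : Over X} (w : T ⟶ U) (c : T ⟶ FC), Fac j' w ↔ Fac j (lift (c ≫ fc) w ≫ b.act) := by
    intro T w c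
    have e := hV' T (lift c w)
    rw [lift_snd, hW'fac, hm', lift_fst, lift_snd] at e
    exact e
  have hlocV : ∀ {Z : Over X} (jj : Z ⟶ U) [Mono jj] {T : Over X} (w : T ⟶ U),
      Fac jj (snd FC T ≫ w) → Fac jj w := by
    intro Z jj _ T w hh
    haveI := (hXflat T).1
    haveI := (hXflat T).2.1
    haveI := (hXflat T).2.2
    exact fac_of_effectiveEpi (snd FC T) hh
  have hstab : ∀ (T : Over X) (g : T ⟶ Red.bc πX K') (v : T ⟶ V'),
      Fac j' (lift (g ≫ (F).map i') (v ≫ j') ≫ b.act) := by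
    intro T g v
    refine hlocV j' _ ((hcritV _ (fst FC T)).2 ?_)
    obtain ⟨c', hc'⟩ := (hcritX _ (fst FC T)).1 ((fac_self ((F).map i') g).comp (snd FC T))
    rw [comp_lift_assoc, ← AlgGrp.Action.lift_mul_act, ← hc']
    exact (hcritV _ c').1 ((fac_self j' v).comp _)
  obtain ⟨a', ha'⟩ := exists_action_of_mono ((F).map i') b j' hstab
  refine ⟨K', grp, inferInstance, i', hmon, hi', V', j', hj', a', ⟨?_, ?_⟩, ha', ?_, ?_⟩
  · refine TorsorDesc.isPseudoTorsorSch_of_points (fun T w₁ w₂ => ?_) (fun T g₁ g₂ w e => ?_)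
    · obtain ⟨h, hh⟩ := TorsorDesc.exists_act_eq hb.1 (w₁ ≫ j') (w₂ ≫ j')
      have hloc' : Fac ((F).map i') (snd FC T ≫ h) := by
        refine (hcritX _ (fst FC T)).2 ?_
        obtain ⟨v₁, hv₁⟩ := (hcritV _ (fst FC T)).1 ((fac_self j' w₁).comp (snd FC T))
        obtain ⟨v₂, hv₂⟩ := (hcritV _ (fst FC T)).1 ((fac_self j' w₂).comp (snd FC T))
        obtain ⟨κ, hκ⟩ := TorsorDesc.exists_act_eq ha.1 v₁ v₂
        have : (fst FC T ≫ fc) * (snd FC T ≫ h) = (κ ≫ (F).map i) * (fst FC T ≫ fc) := by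
          refine TorsorDesc.act_left_injective hb.1 (p := snd FC T ≫ w₂ ≫ j') ?_
          rw [AlgGrp.Action.lift_mul_act, AlgGrp.Action.lift_mul_act, ← comp_lift_assoc, hh, ← hv₁, ← hκ,
            equivariant_points heq, hv₂]
        rw [this]
        exact hC2X κ _ (fac_self fc _)
      rw [fac_map_iff] at hloc'
      have : Fac i' (toB πX h) := by
        haveI := (hXflat T).1
        haveI := (hXflat T).2.1
        haveI := (hXflat T).2.2
        rw [toB_precomp] at hloc'
        haveI : EffectiveEpi ((Over.map πX).map (snd FC T)).left := inferInstanceAs (EffectiveEpi (snd FC T).left)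
        exact fac_of_effectiveEpi ((Over.map πX).map (snd FC T)) hloc'
      rw [← fac_map_iff] at this
      obtain ⟨g, rfl⟩ := this
      exact ⟨g, by rw [← cancel_mono j', equivariant_points ha', hh]⟩
    · have e' := congrArg (· ≫ j') e
      simp only [equivariant_points ha'] at e'
      haveI : Mono ((F).map i') := inferInstance
      exact (cancel_mono _).1 (TorsorDesc.act_left_injective hb.1 e')
  · obtain ⟨R, hR, hsec⟩ := ha.2
    obtain ⟨κ₀, Wc, g, hg, href⟩ := FpqcRep.exists_small_refinement hR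
    refine ⟨_, Precoverage.comp_mem_coverings g hg (σ := fun _ => PUnit.{u + 1})
      (Y := fun i₀ _ => (FC ⊗ Over.mk (g i₀)).left) (fun i₀ _ => (snd FC (Over.mk (g i₀))).left) (fun i₀ => ?_), ?_⟩
    · haveI := (hXflat (Over.mk (g i₀))).1
      haveI := (hXflat (Over.mk (g i₀))).2.1
      haveI := (hXflat (Over.mk (g i₀))).2.2
      rw [Presieve.ofArrows_pUnit]
      exact Scheme.Hom.singleton_mem_fpqcPrecoverage _
    rintro _ _ ⟨⟨i₀, ⟨⟩⟩⟩
    obtain ⟨Z, f, k₀, hf, hk⟩ := href i₀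
    obtain ⟨s, hs⟩ := hsec f hf
    let T : Over X := FC ⊗ Over.mk (g i₀)
    let v : T ⟶ V := snd FC (Over.mk (g i₀)) ≫ Over.homMk (k₀ ≫ s) (by
      show (k₀ ≫ s) ≫ V.hom = g i₀
      rw [Category.assoc, hs, hk])
    obtain ⟨w, hw⟩ : Fac j' (lift (fst _ _ ≫ fc : T ⟶ _)⁻¹ (v ≫ j) ≫ b.act) := by
      refine (hcritV _ (fst _ _)).2 ⟨v, ?_⟩
      rw [← AlgGrp.Action.lift_mul_act, mul_inv_cancel, AlgGrp.Action.lift_one_act]
    exact ⟨w.left, (Over.w w).trans (Over.w (snd FC (Over.mk (g i₀)))).symm⟩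
  · obtain ⟨v, hv⟩ : Fac j' ptU :=
      hlocV j' _ ((hcritV _ (fst FC (pt y))).2 (hpt (snd FC (pt y)) (fst FC (pt y))))
    exact ⟨v.left, congrArg CommaMorphism.left hv⟩
  · intro hiso
    have : Fac j (𝟙 U) := by
      refine hlocV j _ ?_
      have h₁ : Fac j' (lift (fst FC U ≫ fc)⁻¹ (snd FC U) ≫ b.act) :=
        ⟨(lift (fst FC U ≫ fc)⁻¹ (snd FC U) ≫ b.act) ≫ inv j', by simp⟩
      rw [hcritV _ (fst FC U), ← AlgGrp.Action.lift_mul_act, mul_inv_cancel, AlgGrp.Action.lift_one_act] at h₁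
      rwa [Category.comp_id]
    obtain ⟨r, hr⟩ := this
    exact ⟨r, by rw [← cancel_mono j, Category.assoc, hr, Category.comp_id, Category.id_comp], hr⟩

end GrothLib.NoriFGS13
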